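import Mathlib
import Cfsg.Prelude.Def_AxialAlgebras

/-!
# Sakuma's theorem in the Majorana setting (S5544): definitions for the team proof

`Amb` : the ambient facts used (commutative product, symmetric positive definite associating form).
`UAx` : the facts about ONE unit Majorana pair `(t, a)` that the algebraic core uses.
`HTab`: "half table": product/Gram rules of the dihedral configuration seen from `a0`
        (atoms: `a0 a1 am1 a2 am2 a3 s se so`, scalars `lam f`).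
`Tab` : both halves (`h1` is the half table of the flipped configuration
        `a0<->a1, am1<->a2, am2<->a3, se<->so`), so that `Tab.flip` is trivial.
Polynomials `gP hP l5P seseP sesoP P1 P2` in `(lam, f)`.
-/

set_option autoImplicit false

namespace Cfsg.Agent.Helper78.Sak

section
variable {V : Type*} [AddCommGroup V] [Module ℝ V]

/-- ambient facts -/
structure Amb (mul : V →ₗ[ℝ] V →ₗ[ℝ] V) (B : LinearMap.BilinForm ℝ V) : Prop where
  comm : ∀ u v : V, mul u v = mul v u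
  symm : ∀ u v : V, B u v = B v u
  pos : ∀ u : V, u ≠ 0 → 0 < B u u
  assoc : ∀ u v w : V, B u (mul v w) = B (mul u v) w

/-- facts about a unit Majorana pair `(t, a)` -/
structure UAx (mul : V →ₗ[ℝ] V →ₗ[ℝ] V) (B : LinearMap.BilinForm ℝ V) (t : V ≃ₗ[ℝ] V) (a : V) :
    Prop where
  tmul : ∀ u v : V, t (mul u v) = mul (t u) (t v)
  tB : ∀ u v : V, B (t u) (t v) = B u v
  tt : ∀ v : V, t (t v) = v
  ta : t a = a
  aa : mul a a = a
  nrm : B a a = 1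
  F1 : ∀ y : V, mul a (mul a y - (1 / 32 : ℝ) • (a + y)) =
      (7 / 32 : ℝ) • (mul a y - (1 / 32 : ℝ) • (a + y)) + (3 / 4 * B a y - 25 / 1024) • a
        + (7 / 2048 : ℝ) • (y + t y)
  anti : ∀ y : V, mul a (y - t y) = (1 / 32 : ℝ) • (y - t y)
  f00 : ∀ u : V, mul a u = 0 → mul a (mul u u) = 0
  f04 : ∀ u w : V, mul a u = 0 → mul a w = (1 / 4 : ℝ) • w →
      mul a (mul u w) = (1 / 4 : ℝ) • mul u w
  f44 : ∀ w : V, mul a w = (1 / 4 : ℝ) • w → mul a (mul w w) = ((1 / 4) * B w w) • a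

/-- half table (the configuration seen from `a0`); `c1(x) = 3/4*x - 25/1024` -/
structure HTab (mul : V →ₗ[ℝ] V →ₗ[ℝ] V) (B : LinearMap.BilinForm ℝ V) (lam f : ℝ)
    (a0 a1 am1 a2 am2 a3 s se so : V) : Prop where
  p00 : mul a0 a0 = a0
  pm1m1 : mul am1 am1 = am1
  pm2m2 : mul am2 am2 = am2
  p01 : mul a0 a1 = s + (1 / 32 : ℝ) • (a0 + a1)
  p0m1 : mul a0 am1 = s + (1 / 32 : ℝ) • (a0 + am1)
  pm1m2 : mul am1 am2 = s + (1 / 32 : ℝ) • (am1 + am2)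
  p02 : mul a0 a2 = se + (1 / 32 : ℝ) • (a0 + a2)
  p0m2 : mul a0 am2 = se + (1 / 32 : ℝ) • (a0 + am2)
  p0s : mul a0 s = (7 / 32 : ℝ) • s + (3 / 4 * lam - 25 / 1024) • a0 + (7 / 2048 : ℝ) • (a1 + am1)
  pm1s : mul am1 s = (7 / 32 : ℝ) • s + (3 / 4 * lam - 25 / 1024) • am1
      + (7 / 2048 : ℝ) • (a0 + am2)
  p0se : mul a0 se = (7 / 32 : ℝ) • se + (3 / 4 * f - 25 / 1024) • a0 + (7 / 2048 : ℝ) • (a2 + am2)
  f00 : ∀ u : V, mul a0 u = 0 → mul a0 (mul u u) = 0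
  f04 : ∀ u w : V, mul a0 u = 0 → mul a0 w = (1 / 4 : ℝ) • w →
      mul a0 (mul u w) = (1 / 4 : ℝ) • mul u w
  f44 : ∀ w : V, mul a0 w = (1 / 4 : ℝ) • w → mul a0 (mul w w) = ((1 / 4) * B w w) • a0
  n0 : B a0 a0 = 1
  nm1 : B am1 am1 = 1
  nm2 : B am2 am2 = 1
  l01 : B a0 a1 = lam
  l0m1 : B a0 am1 = lam
  lm1m2 : B am1 am2 = lam
  f02 : B a0 a2 = f
  f0m2 : B a0 am2 = f
  g1 : B am1 a2 = B a0 a3
  g2 : B am2 a1 = B a0 a3

/-- full table: both halves -/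
structure Tab (mul : V →ₗ[ℝ] V →ₗ[ℝ] V) (B : LinearMap.BilinForm ℝ V) (lam f : ℝ)
    (a0 a1 am1 a2 am2 a3 s se so : V) : Prop where
  amb : Amb mul B
  h0 : HTab mul B lam f a0 a1 am1 a2 am2 a3 s se so
  h1 : HTab mul B lam f a1 a0 a2 am1 a3 am2 s so se

theorem Tab.flip {mul : V →ₗ[ℝ] V →ₗ[ℝ] V} {B : LinearMap.BilinForm ℝ V} {lam f : ℝ}
    {a0 a1 am1 a2 am2 a3 s se so : V} (T : Tab mul B lam f a0 a1 am1 a2 am2 a3 s se so) :
    Tab mul B lam f a1 a0 a2 am1 a3 am2 s so se :=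
  ⟨T.amb, T.h1, T.h0⟩

/-- right-hand side of the stage-one formula for `mul a0 so` -/
noncomputable def Xrhs (lam f : ℝ) (a0 a1 am1 a2 am2 s se : V) : V :=
  (7/6144 : ℝ) • am2 + ((-19/3072) + 1/6*lam : ℝ) • am1 + ((-127/3072) + (-1/24)*f + 5/3*lam + (-32/3)*lam^2 : ℝ) • a0 + ((-19/3072) + 1/6*lam : ℝ) • a1 + (7/6144 : ℝ) • a2 + ((-19/48) + 32/3*lam : ℝ) • s + (7/96 : ℝ) • se

/-- right-hand side of the stage-one formula for `mul s s` -/
noncomputable def SSrhs (lam f : ℝ) (a0 a1 am1 a2 am2 s se so : V) : V :=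
  (49/196608 : ℝ) • am2 + ((-245/196608) + 49/768*lam : ℝ) • am1 + ((-7/98304) + 7/1536*f + (-7/384)*lam + 7/6*lam^2 : ℝ) • a0 + ((-245/196608) + 49/768*lam : ℝ) • a1 + (49/196608 : ℝ) • a2 + ((-13/1536) + (-5/12)*lam : ℝ) • s + ((-7/1536) : ℝ) • se + (7/2048 : ℝ) • so

/-- right-hand side of the key relation `K1` expressing `a3` -/
noncomputable def K1rhs (lam f : ℝ) (a0 a1 am1 a2 am2 se so : V) : V :=
  (1 : ℝ) • am2 + ((-6) + 256*lam : ℝ) • am1 + (33/7 + 128/7*f + (-2304/7)*lam + 32768/7*lam^2 : ℝ) • a0 + ((-33/7) + (-128/7)*f + 2304/7*lam + (-32768/7)*lam^2 : ℝ) • a1 + (6 + (-256)*lam : ℝ) • a2 + ((-32) : ℝ) • se + (32 : ℝ) • so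

/-- right-hand side of the formula for `mul a0 a3` -/
noncomputable def E03rhs (lam f : ℝ) (a0 a1 am1 a2 am2 s se : V) : V :=
  ((-1/24) : ℝ) • am2 + ((-37/96) + 40/3*lam : ℝ) • am1 + (1363/336 + (-160/21)*f + (-5576/21)*lam + 88064/21*lam^2 : ℝ) • a0 + ((-29/84) + (-4/7)*f + 328/21*lam + (-1024/7)*lam^2 : ℝ) • a1 + (11/96 + (-8)*lam : ℝ) • a2 + ((-491/21) + (-128/7)*f + 19456/21*lam + (-32768/7)*lam^2 : ℝ) • s + (7/3 + (-256)*lam : ℝ) • se

end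

/-! polynomials in `(l, f) = (B a0 a1, B a0 a2)` -/

noncomputable def gP (l f : ℝ) : ℝ := 33/7 + (-33/7)*f + (-2169/7)*l + (-1920/7)*l*f + 36864/7*l^2 + (-32768/7)*l^3
noncomputable def hP (l f : ℝ) : ℝ := 156/7 + (-3)*f + (-19840/7)*l + (-128/7)*f^2 + (-640/7)*l*f + 110592*l^2 + 65536*l^2*f + (-9601024/7)*l^3 + 8388608/7*l^4
noncomputable def l5P (l f : ℝ) : ℝ := 5512/49 + (-5256/49)*f + (-137721/7)*l + (-256/49)*f^2 + 259584/49*l*f + 8683520/7*l^2 + 475136/49*l*f^2 + 12582912/49*l^2*f + (-1633419264/49)*l^3 + (-754974720/49)*l^3*f + 16273899520/49*l^4 + (-13958643712/49)*l^5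
noncomputable def seseP (l f : ℝ) : ℝ := 153/2048 + 239/2048*f + (-155/16)*l + 11/16*f^2 + (-5/16)*l*f + 378*l^2 + 224*l^2*f + (-4688)*l^3 + 4096*l^4
noncomputable def sesoP (l f : ℝ) : ℝ := 135/14336 + 761/14336*f + (-335/256)*l + (-1/16)*f^2 + 277/112*l*f + 366/7*l^2 + 128/7*l^2*f + (-656)*l^3 + 4096/7*l^4
noncomputable def P1 (l f : ℝ) : ℝ := (-117/56) + 501/56*f + 1800/7*l + (-48/7)*f^2 + (-3336/7)*l*f + (-69120/7)*l^2 + (-15360/7)*l^2*f + 872448/7*l^3 + (-786432/7)*l^4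
noncomputable def P2 (l f : ℝ) : ℝ := (-1209/392) + (-9223/392)*f + 1104*l + 1304/49*f^2 + (-42320/49)*l*f + (-714240/7)*l^2 + 156672/49*l*f^2 + 4532224/49*l^2*f + 171216896/49*l^3 + 47185920/49*l^3*f + (-2030043136/49)*l^4 + 1811939328/49*l^5

end Cfsg.Agent.Helper78.Sak
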