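import Cfsg.Agent.Helper78.Sak.Defs

/-! Piece I of S5544: the endgame, pure real algebra. -/

set_option autoImplicit false

namespace Cfsg.Agent.Helper78.Sak

theorem endgame (l f : ℝ) (h1 : P1 l f = 0) (h2 : P2 l f = 0) :
    (l = 0 ∧ f = 1) ∨ (l = 1 ∧ f = 1) ∨ (l = 1 / 8 ∧ f = 1) ∨ (l = 1 / 32 ∧ f = 0) ∨
      (l = 3 / 128 ∧ f = 3 / 128) ∨ (l = 5 / 256 ∧ f = 13 / 256) ∨
      (l = 13 / 256 ∧ f = 13 / 256) ∨ (l = 1 / 64 ∧ f = 1 / 64) ∨ (l = 1 / 64 ∧ f = 1 / 8) := by
  unfold P1 at h1
  unfold P2 at h2
  -- L = 256 l, M = 256 f
  have e1 : (256*l)^4 - 284*(256*l)^3 + 5*(256*l)^2*(256*f) + 5760*(256*l)^2 + 278*(256*l)*(256*f)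
      + 4*(256*f)^2 - 38400*(256*l) - 1336*(256*f) + 79872 = 0 := by
    linear_combination (-114688 / 3 : ℝ) * h1
  have e2 : (256*l - 4) * ((256*l)^4 - 266*(256*l)^3 + 1600*(256*l)^2 + 28672*(256*l) - 199680
      + ((256*l)^2 + 592*(256*l) + 780) * (256*f)) = 0 := by
    linear_combination (-3211264 / 45 : ℝ) * h2 - (-3211264 / 45 : ℝ) * (-163/42 - 3264/7*l) * h1
  rcases mul_eq_zero.1 e2 with h4 | e3
  · -- l = 1/64
    have hl : l = 1 / 64 := by linarith
    subst hl
    have e4 : (f - 1/64) * (f - 1/8) = 0 := by linear_combination (1 / 262144 : ℝ) * e1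
    rcases mul_eq_zero.1 e4 with h | h
    · right; right; right; right; right; right; right; left
      exact ⟨rfl, by linarith⟩
    · right; right; right; right; right; right; right; right
      exact ⟨rfl, by linarith⟩
  · have hR : (256*l) * (256*l - 256) * (256*l - 32) * (256*l - 8) * (256*l - 6) * (256*l - 5)
        * (256*l - 13) = 0 := by
      linear_combination (-1 / 3136 : ℝ) * (((256*l)^2 + 592*(256*l) + 780)^2 * e1
        - (4 * ((256*l)^4 - 266*(256*l)^3 + 1600*(256*l)^2 + 28672*(256*l) - 199680
            + ((256*l)^2 + 592*(256*l) + 780) * (256*f))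
          - 8 * ((256*l)^4 - 266*(256*l)^3 + 1600*(256*l)^2 + 28672*(256*l) - 199680)
          + (5*(256*l)^2 + 278*(256*l) - 1336) * ((256*l)^2 + 592*(256*l) + 780)) * e3)
    rcases mul_eq_zero.1 hR with hR | h13
    · rcases mul_eq_zero.1 hR with hR | h5
      · rcases mul_eq_zero.1 hR with hR | h6
        · rcases mul_eq_zero.1 hR with hR | h8
          · rcases mul_eq_zero.1 hR with hR | h32
            · rcases mul_eq_zero.1 hR with h0 | h256
              · have hl : l = 0 := by linarith
                subst hl
                left
                exact ⟨rfl, by linarith⟩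
              · have hl : l = 1 := by linarith
                subst hl
                right; left
                exact ⟨rfl, by linarith⟩
            · have hl : l = 1 / 8 := by linarith
              subst hl
              right; right; left
              exact ⟨rfl, by linarith⟩
          · have hl : l = 1 / 32 := by linarith
            subst hl
            right; right; right; left
            exact ⟨rfl, by linarith⟩
        · have hl : l = 3 / 128 := by linarith
          subst hl
          right; right; right; right; left
          exact ⟨rfl, by linarith⟩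
      · have hl : l = 5 / 256 := by linarith
        subst hl
        right; right; right; right; right; left
        exact ⟨rfl, by linarith⟩
    · have hl : l = 13 / 256 := by linarith
      subst hl
      right; right; right; right; right; right; left
      exact ⟨rfl, by linarith⟩

end Cfsg.Agent.Helper78.Sak
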