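import Cfsg.Agent.Helper78.Sak.Defs

/-! Piece C2 of S5544: `fe_eq_fo`. -/

set_option autoImplicit false

namespace Cfsg.Agent.Helper78.Sak

variable {V : Type*} [AddCommGroup V] [Module ℝ V]
variable {mul : V →ₗ[ℝ] V →ₗ[ℝ] V} {B : LinearMap.BilinForm ℝ V}

/-- the squared length of `a*y` for a unit axis `a` and a unit idempotent `y` -/
theorem norm_prod (A : Amb mul B) {t : V ≃ₗ[ℝ] V} {a : V} (h : UAx mul B t a) (y : V)
    (hyy : mul y y = y) (hy : B y y = 1) :
    B (mul a y) (mul a y) = (1 / 16) * B a y + (7 / 32) * (B a y - (1 / 32) * (B a y + 1))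
      + (3 / 4 * B a y - 25 / 1024) * B a y + (7 / 2048) * (1 + B y (t y)) := by
  have e1 : B (mul a y) (mul a y) = B (mul a (mul a y)) y := by
    rw [A.assoc (mul a y) a y, A.comm (mul a y) a]
  have e2 : mul a (mul a y) = (1 / 32 : ℝ) • (a + mul a y)
      + ((7 / 32 : ℝ) • (mul a y - (1 / 32 : ℝ) • (a + y)) + (3 / 4 * B a y - 25 / 1024) • a
        + (7 / 2048 : ℝ) • (y + t y)) := by
    have := h.F1 y
    simp only [map_sub, map_smul, map_add, h.aa] at this
    linear_combination (norm := module) this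
  have e3 : B (mul a y) y = B a y := by
    rw [← A.assoc, hyy]
  rw [e1, e2]
  simp only [map_add, map_sub, map_smul, LinearMap.add_apply, LinearMap.sub_apply,
    LinearMap.smul_apply, smul_eq_mul]
  rw [e3, hy, A.symm (t y) y]
  ring

theorem fe_eq_fo (A : Amb mul B) {t0 t1 : V ≃ₗ[ℝ] V} {a0 a1 : V} (h0 : UAx mul B t0 a0)
    (h1 : UAx mul B t1 a1) : B a0 (t1 a0) = B a1 (t0 a1) := by
  have n0 := norm_prod A h0 a1 h1.aa h1.nrm
  have n1 := norm_prod A h1 a0 h0.aa h0.nrm
  rw [A.comm a1 a0, A.symm a1 a0] at n1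
  linarith

end Cfsg.Agent.Helper78.Sak
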