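import Cfsg.Agent.Helper78.Sak.Defs

/-! Piece G1 of S5544: Gram values of `s`, `se` against the axes. -/

set_option autoImplicit false

namespace Cfsg.Agent.Helper78.Sak

variable {V : Type*} [AddCommGroup V] [Module ℝ V]
variable {mul : V →ₗ[ℝ] V →ₗ[ℝ] V} {B : LinearMap.BilinForm ℝ V}
variable {lam f : ℝ} {a0 a1 am1 a2 am2 a3 s se so : V}

/-- generic: if `x*y = w + (1/32)(x+y)`, `x*x = x`... then `B w x = B x y - (1 + B x y)/32` -/
theorem gram_aux (A : Amb mul B) (x y w : V) (hxy : mul x y = w + (1 / 32 : ℝ) • (x + y))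
    (hxx : mul x x = x) (hn : B x x = 1) : B w x = (31 * B x y - 1) / 32 := by
  have ew : w = mul x y - (1 / 32 : ℝ) • (x + y) := by rw [hxy]; module
  rw [ew]
  simp only [map_sub, map_add, map_smul, LinearMap.sub_apply, LinearMap.add_apply,
    LinearMap.smul_apply, smul_eq_mul]
  rw [A.comm x y, ← A.assoc, hxx, A.symm y x, hn]
  ring

theorem gram_s (T : Tab mul B lam f a0 a1 am1 a2 am2 a3 s se so) :
    B s a0 = (31 * lam - 1) / 32 ∧ B s a1 = (31 * lam - 1) / 32 ∧ B s am1 = (31 * lam - 1) / 32 ∧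
      B s a2 = (31 * lam - 1) / 32 ∧ B s am2 = (31 * lam - 1) / 32 ∧
      B s a3 = (31 * lam - 1) / 32 := by
  have A := T.amb
  have h0 := T.h0
  have h1 := T.h1
  refine ⟨?_, ?_, ?_, ?_, ?_, ?_⟩
  · rw [gram_aux A a0 a1 s h0.p01 h0.p00 h0.n0, h0.l01]
  · rw [gram_aux A a1 a0 s h1.p01 h1.p00 h1.n0, h1.l01]
  · have e : mul am1 a0 = s + (1 / 32 : ℝ) • (am1 + a0) := by
      rw [A.comm, h0.p0m1, add_comm a0 am1]
    rw [gram_aux A am1 a0 s e h0.pm1m1 h0.nm1, A.symm am1 a0, h0.l0m1]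
  · have e : mul a2 a1 = s + (1 / 32 : ℝ) • (a2 + a1) := by
      rw [A.comm, h1.p0m1, add_comm a1 a2]
    rw [gram_aux A a2 a1 s e h1.pm1m1 h1.nm1, A.symm a2 a1, h1.l0m1]
  · have e : mul am2 am1 = s + (1 / 32 : ℝ) • (am2 + am1) := by
      rw [A.comm, h0.pm1m2, add_comm am1 am2]
    rw [gram_aux A am2 am1 s e h0.pm2m2 h0.nm2, A.symm am2 am1, h0.lm1m2]
  · have e : mul a3 a2 = s + (1 / 32 : ℝ) • (a3 + a2) := by
      rw [A.comm, h1.pm1m2, add_comm a2 a3]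
    rw [gram_aux A a3 a2 s e h1.pm2m2 h1.nm2, A.symm a3 a2, h1.lm1m2]

theorem gram_se (T : Tab mul B lam f a0 a1 am1 a2 am2 a3 s se so) :
    B se a0 = (31 * f - 1) / 32 ∧ B se a2 = (31 * f - 1) / 32 ∧ B se am2 = (31 * f - 1) / 32 ∧
      B se a1 = (30 * lam + f - 1) / 32 ∧ B se am1 = (30 * lam + f - 1) / 32 ∧
      B se a3 = (30 * lam + f - 1) / 32 := by
  have A := T.amb
  have h0 := T.h0
  have h1 := T.h1
  obtain ⟨s0, s1, sm1, s2, sm2, s3⟩ := gram_s T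
  have ese : se = mul a0 a2 - (1 / 32 : ℝ) • (a0 + a2) := by rw [h0.p02]; module
  have ese' : se = mul a0 am2 - (1 / 32 : ℝ) • (a0 + am2) := by rw [h0.p0m2]; module
  refine ⟨?_, ?_, ?_, ?_, ?_, ?_⟩
  · rw [gram_aux A a0 a2 se h0.p02 h0.p00 h0.n0, h0.f02]
  · have e : mul a2 a0 = se + (1 / 32 : ℝ) • (a2 + a0) := by
      rw [A.comm, h0.p02, add_comm a0 a2]
    rw [gram_aux A a2 a0 se e h1.pm1m1 h1.nm1, A.symm a2 a0, h0.f02]
  · have e : mul am2 a0 = se + (1 / 32 : ℝ) • (am2 + a0) := by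
      rw [A.comm, h0.p0m2, add_comm a0 am2]
    rw [gram_aux A am2 a0 se e h0.pm2m2 h0.nm2, A.symm am2 a0, h0.f0m2]
  · -- B se a1 = B a2 (a0 a1) - (lam + lam)/32
    rw [ese]
    simp only [map_sub, map_add, map_smul, LinearMap.sub_apply, LinearMap.add_apply,
      LinearMap.smul_apply, smul_eq_mul]
    rw [A.comm a0 a2, ← A.assoc, h0.p01]
    simp only [map_add, map_smul, smul_eq_mul]
    rw [A.symm a2 s, s2, A.symm a2 a0, h0.f02, A.symm a2 a1, h1.l0m1, h0.l01]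
    ring
  · rw [ese']
    simp only [map_sub, map_add, map_smul, LinearMap.sub_apply, LinearMap.add_apply,
      LinearMap.smul_apply, smul_eq_mul]
    rw [A.comm a0 am2, ← A.assoc, h0.p0m1]
    simp only [map_add, map_smul, smul_eq_mul]
    rw [A.symm am2 s, sm2, A.symm am2 a0, h0.f0m2, A.symm am2 am1, h0.lm1m2, h0.l0m1]
    ring
  · -- B se a3 = B a0 (a2 a3) - (g + lam)/32
    rw [ese]
    simp only [map_sub, map_add, map_smul, LinearMap.sub_apply, LinearMap.add_apply,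
      LinearMap.smul_apply, smul_eq_mul]
    rw [← A.assoc, h1.pm1m2]
    simp only [map_add, map_smul, smul_eq_mul]
    rw [A.symm a0 s, s0, h0.f02, h1.lm1m2]
    ring

end Cfsg.Agent.Helper78.Sak
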