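import Cfsg.Agent.Helper78.Sak.Defs

/-! Pieces F and J of S5544 (table level). -/

set_option autoImplicit false

namespace Cfsg.Agent.Helper78.Sak

variable {V : Type*} [AddCommGroup V] [Module ℝ V]
variable {mul : V →ₗ[ℝ] V →ₗ[ℝ] V} {B : LinearMap.BilinForm ℝ V}
variable {lam f : ℝ} {a0 a1 am1 a2 am2 a3 s se so : V}

/-- Piece F: the key relation from the two stage-one formulas for `s*s`. -/
theorem K1_of (ss1 : mul s s = SSrhs lam f a0 a1 am1 a2 am2 s se so)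
    (ss2 : mul s s = SSrhs lam f a1 a0 a2 am1 a3 s so se) :
    a3 = K1rhs lam f a0 a1 am1 a2 am2 se so := by
  have e : SSrhs lam f a0 a1 am1 a2 am2 s se so = SSrhs lam f a1 a0 a2 am1 a3 s so se := by
    rw [← ss1, ← ss2]
  unfold SSrhs at e
  unfold K1rhs
  linear_combination (norm := module) (-196608 / 49 : ℝ) • e

/-- two unit vectors with inner product one are equal -/
theorem eq_of_unit (A : Amb mul B) (x y : V) (hx : B x x = 1) (hy : B y y = 1) (hxy : B x y = 1) :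
    x = y := by
  by_contra hne
  have h0 : x - y ≠ 0 := sub_ne_zero.2 hne
  have h1 := A.pos _ h0
  have h2 : B (x - y) (x - y) = 0 := by
    simp only [map_sub, LinearMap.sub_apply]
    rw [A.symm y x, hx, hy, hxy]
    norm_num
  rw [h2] at h1
  exact lt_irrefl _ h1

theorem per2 (T : Tab mul B lam f a0 a1 am1 a2 am2 a3 s se so) (hf : f = 1) : a2 = a0 := by
  refine eq_of_unit T.amb a2 a0 T.h1.nm1 T.h0.n0 ?_
  rw [T.amb.symm, T.h0.f02, hf]

theorem per3_of (T : Tab mul B lam f a0 a1 am1 a2 am2 a3 s se so) (hG : B a0 a3 = gP lam f)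
    (hg : gP lam f = 1) : a3 = a0 := by
  refine eq_of_unit T.amb a3 a0 T.h1.nm2 T.h0.n0 ?_
  rw [T.amb.symm, hG, hg]

theorem per4_of (T : Tab mul B lam f a0 a1 am1 a2 am2 a3 s se so) (hH : B a2 am2 = hP lam f)
    (hh : hP lam f = 1) : a2 = am2 := by
  refine eq_of_unit T.amb a2 am2 T.h1.nm1 T.h0.nm2 ?_
  rw [hH, hh]

theorem per5_of (T : Tab mul B lam f a0 a1 am1 a2 am2 a3 s se so) (h5 : B am2 a3 = l5P lam f)
    (h5' : l5P lam f = 1) : a3 = am2 := by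
  refine eq_of_unit T.amb a3 am2 T.h1.nm2 T.h0.nm2 ?_
  rw [T.amb.symm, h5, h5']

/-- `t0` fixes `se` -/
theorem t0_se {t0 t1 : V ≃ₗ[ℝ] V} {a0 : V} (h0 : UAx mul B t0 a0) :
    t0 (mul a0 (t1 a0) - (1 / 32 : ℝ) • (a0 + t1 a0)) =
      mul a0 (t1 a0) - (1 / 32 : ℝ) • (a0 + t1 a0) := by
  have e := h0.anti (t1 a0)
  simp only [map_sub, map_add, map_smul, h0.tmul, h0.ta] at e ⊢
  linear_combination (norm := module) (-1 : ℝ) • e

/-- `t0` fixes `so` -/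
theorem t0_so (A : Amb mul B) {t0 : V ≃ₗ[ℝ] V} {a0 a1 : V} (h0 : UAx mul B t0 a0) :
    t0 (mul a1 (t0 a1) - (1 / 32 : ℝ) • (a1 + t0 a1)) =
      mul a1 (t0 a1) - (1 / 32 : ℝ) • (a1 + t0 a1) := by
  simp only [map_sub, map_add, map_smul, h0.tmul, h0.tt]
  rw [A.comm (t0 a1) a1]
  module

/-- 6A case: `am3 = a3` -/
theorem per6_of (A : Amb mul B) {t0 t1 : V ≃ₗ[ℝ] V} {a0 a1 : V} (h0 : UAx mul B t0 a0)
    (hl : B a0 a1 = 5 / 256) (hf : B a0 (t1 a0) = 13 / 256)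
    (hK : t1 (t0 a1) = K1rhs (B a0 a1) (B a0 (t1 a0)) a0 a1 (t0 a1) (t1 a0) (t0 (t1 a0))
      (mul a0 (t1 a0) - (1 / 32 : ℝ) • (a0 + t1 a0))
      (mul a1 (t0 a1) - (1 / 32 : ℝ) • (a1 + t0 a1))) :
    t0 (t1 (t0 a1)) = t1 (t0 a1) := by
  rw [hl, hf] at hK
  unfold K1rhs at hK
  have e := congrArg t0 hK
  simp only [map_add, map_smul, t0_se h0, t0_so A h0, h0.tt, h0.ta] at e
  rw [e, hK]
  module

end Cfsg.Agent.Helper78.Sak
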