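import Cfsg.Agent.Helper78.Sak.Defs

/-! Piece E of S5544: stage one. -/

set_option autoImplicit false

namespace Cfsg.Agent.Helper78.Sak

variable {V : Type*} [AddCommGroup V] [Module ℝ V]
variable {mul : V →ₗ[ℝ] V →ₗ[ℝ] V} {B : LinearMap.BilinForm ℝ V}
variable {lam f : ℝ} {a0 a1 am1 a2 am2 a3 s se so : V}

theorem stage_one_gram (T : Tab mul B lam f a0 a1 am1 a2 am2 a3 s se so) :
    B s a0 = (31 * lam - 1) / 32 ∧ B s a1 = (31 * lam - 1) / 32 ∧ B s am1 = (31 * lam - 1) / 32 ∧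
      B s s = -3/2048 + 7/2048*f + 65/512*lam + 3/4*lam^2 := by
  have A := T.amb
  have h0 := T.h0
  have h1 := T.h1
  have es : s = mul a0 a1 - (1 / 32 : ℝ) • (a0 + a1) := by
    rw [h0.p01]; module
  have es' : s = mul a0 am1 - (1 / 32 : ℝ) • (a0 + am1) := by
    rw [h0.p0m1]; module
  have b0 : B s a0 = (31 * lam - 1) / 32 := by
    rw [es]
    simp only [map_sub, map_add, map_smul, LinearMap.sub_apply, LinearMap.add_apply,
      LinearMap.smul_apply, smul_eq_mul]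
    rw [A.comm a0 a1, ← A.assoc, h0.p00, A.symm a1 a0, h0.l01, h0.n0]
    ring
  have b1 : B s a1 = (31 * lam - 1) / 32 := by
    rw [es]
    simp only [map_sub, map_add, map_smul, LinearMap.sub_apply, LinearMap.add_apply,
      LinearMap.smul_apply, smul_eq_mul]
    rw [← A.assoc, h1.p00, h0.l01, h1.n0]
    ring
  have bm1 : B s am1 = (31 * lam - 1) / 32 := by
    rw [es']
    simp only [map_sub, map_add, map_smul, LinearMap.sub_apply, LinearMap.add_apply,
      LinearMap.smul_apply, smul_eq_mul]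
    rw [← A.assoc, h0.pm1m1, h0.l0m1, h0.nm1]
    ring
  refine ⟨b0, b1, bm1, ?_⟩
  have bs : B s s = B a1 (mul a0 s) - (1 / 32) * (B a0 s + B a1 s) := by
    nth_rewrite 1 [es]
    simp only [map_sub, map_add, map_smul, LinearMap.sub_apply, LinearMap.add_apply,
      LinearMap.smul_apply, smul_eq_mul]
    rw [A.comm a0 a1, ← A.assoc]
  rw [bs, h0.p0s]
  simp only [map_sub, map_add, map_smul, LinearMap.sub_apply, LinearMap.add_apply,
    LinearMap.smul_apply, smul_eq_mul]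
  rw [A.symm a1 s, A.symm a0 s, b0, b1, A.symm a1 a0, h0.l01, h1.n0, h1.f02]
  ring

theorem stage_one (T : Tab mul B lam f a0 a1 am1 a2 am2 a3 s se so) :
    mul a0 so = Xrhs lam f a0 a1 am1 a2 am2 s se ∧
      mul s s = SSrhs lam f a0 a1 am1 a2 am2 s se so := by
  have A := T.amb
  have h0 := T.h0
  have h1 := T.h1
  obtain ⟨b0, b1, bm1, bss⟩ := stage_one_gram T
  -- product rules (both orders)
  have q00 := h0.p00
  have q01 := h0.p01
  have q10 : mul a1 a0 = s + (1 / 32 : ℝ) • (a0 + a1) := by rw [A.comm, h0.p01]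
  have q0m1 := h0.p0m1
  have qm10 : mul am1 a0 = s + (1 / 32 : ℝ) • (a0 + am1) := by rw [A.comm, h0.p0m1]
  have q0s := h0.p0s
  have qs0 : mul s a0 = (7 / 32 : ℝ) • s + (3 / 4 * lam - 25 / 1024) • a0
      + (7 / 2048 : ℝ) • (a1 + am1) := by rw [A.comm, h0.p0s]
  have q11 := h1.p00
  have qm1m1 := h0.pm1m1
  have q1m1 := h1.p02
  have qm11 : mul am1 a1 = so + (1 / 32 : ℝ) • (a1 + am1) := by rw [A.comm, h1.p02]
  have q1s := h1.p0s
  have qs1 : mul s a1 = (7 / 32 : ℝ) • s + (3 / 4 * lam - 25 / 1024) • a1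
      + (7 / 2048 : ℝ) • (a0 + a2) := by rw [A.comm, h1.p0s]
  have qm1s := h0.pm1s
  have qsm1 : mul s am1 = (7 / 32 : ℝ) • s + (3 / 4 * lam - 25 / 1024) • am1
      + (7 / 2048 : ℝ) • (a0 + am2) := by rw [A.comm, h0.pm1s]
  have q02 := h0.p02
  have q0m2 := h0.p0m2
  -- the 1/4- and 0-components of a1 with respect to a0
  have hα : mul a0 ((4 : ℝ) • s + (1 / 8 - 4 * lam) • a0 + (1 / 16 : ℝ) • (a1 + am1)) =
      (1 / 4 : ℝ) • ((4 : ℝ) • s + (1 / 8 - 4 * lam) • a0 + (1 / 16 : ℝ) • (a1 + am1)) := by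
    simp only [map_add, map_smul, q00, q01, q0m1, q0s]
    module
  have hu : mul a0 ((1 / 2 : ℝ) • (a1 + am1) - lam • a0
      - ((4 : ℝ) • s + (1 / 8 - 4 * lam) • a0 + (1 / 16 : ℝ) • (a1 + am1))) = 0 := by
    simp only [map_add, map_sub, map_smul, q00, q01, q0m1, q0s]
    module
  have E1 := h0.f00 _ hu
  have E2 := h0.f04 _ _ hu hα
  have E3 := h0.f44 _ hα
  have hB : B ((4 : ℝ) • s + (1 / 8 - 4 * lam) • a0 + (1 / 16 : ℝ) • (a1 + am1))
      ((4 : ℝ) • s + (1 / 8 - 4 * lam) • a0 + (1 / 16 : ℝ) • (a1 + am1)) =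
      4 * lam - 4 * lam ^ 2 - (1 - f) / 16 := by
    simp only [map_add, map_smul, LinearMap.add_apply, LinearMap.smul_apply, smul_eq_mul]
    rw [A.symm a0 s, A.symm a1 s, A.symm am1 s, A.symm a1 a0, A.symm am1 a0, A.symm am1 a1, b0, b1,
      bm1, bss, h0.n0, h1.n0, h0.nm1, h0.l01, h0.l0m1, h1.f02]
    ring
  rw [hB] at E3
  simp only [map_add, map_sub, map_smul, LinearMap.add_apply, LinearMap.sub_apply,
    LinearMap.smul_apply, q00, q01, q10, q0m1, qm10, q0s, qs0, q11, qm1m1, q1m1, qm11, q1s, qs1,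
    qm1s, qsm1, q02, q0m2] at E1 E2 E3
  have hX : mul a0 so = Xrhs lam f a0 a1 am1 a2 am2 s se := by
    unfold Xrhs
    linear_combination (norm := module) (8 / 3 : ℝ) • E1 - (8 / 3 : ℝ) • E3
  refine ⟨hX, ?_⟩
  unfold Xrhs at hX
  unfold SSrhs
  linear_combination (norm := module) (1 / 4 : ℝ) • E1 + (1 / 4 : ℝ) • E2 - (7 / 64 : ℝ) • hX

end Cfsg.Agent.Helper78.Sak
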