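import Cfsg.Agent.Helper78.Sak.Defs
import Cfsg.Agent.Helper78.Sak.StageOne
import Cfsg.Agent.Helper78.Sak.Mine
import Cfsg.Agent.Helper78.Sak.Gram

/-! Pieces F, G2 of S5544: `K1`, `g_eq`, `h_eq`, `l5_eq`. -/

set_option autoImplicit false

namespace Cfsg.Agent.Helper78.Sak

variable {V : Type*} [AddCommGroup V] [Module ℝ V]
variable {mul : V →ₗ[ℝ] V →ₗ[ℝ] V} {B : LinearMap.BilinForm ℝ V}
variable {lam f : ℝ} {a0 a1 am1 a2 am2 a3 s se so : V}

theorem K1 (T : Tab mul B lam f a0 a1 am1 a2 am2 a3 s se so) :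
    a3 = K1rhs lam f a0 a1 am1 a2 am2 se so :=
  K1_of (stage_one T).2 (stage_one T.flip).2

theorem g_eq (T : Tab mul B lam f a0 a1 am1 a2 am2 a3 s se so) : B a0 a3 = gP lam f := by
  have A := T.amb
  have h0 := T.h0
  have h1 := T.h1
  obtain ⟨e0, e2, em2, e1, em1, e3⟩ := gram_se T
  obtain ⟨o1, om1, o3, o0, o2, om2⟩ := gram_se T.flip
  have hK := K1 T
  unfold K1rhs at hK
  conv_lhs => rw [hK]
  simp only [map_add, map_smul, smul_eq_mul]
  rw [h0.f0m2, h0.l0m1, h0.n0, h0.l01, h0.f02, A.symm a0 se, e0, A.symm a0 so, o0]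
  unfold gP
  ring

theorem h_eq (T : Tab mul B lam f a0 a1 am1 a2 am2 a3 s se so) : B a2 am2 = hP lam f := by
  have A := T.amb
  have h0 := T.h0
  have h1 := T.h1
  obtain ⟨e0, e2, em2, e1, em1, e3⟩ := gram_se T
  obtain ⟨o1, om1, o3, o0, o2, om2⟩ := gram_se T.flip
  have hg := g_eq T
  have hK := K1 T
  unfold K1rhs at hK
  have e := h1.lm1m2
  rw [hK] at e
  simp only [map_add, map_smul, smul_eq_mul] at e
  rw [A.symm a2 am1, h0.g1, hg, A.symm a2 a0, h0.f02, A.symm a2 a1, h1.l0m1, h1.nm1,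
    A.symm a2 se, e2, A.symm a2 so, o2] at e
  unfold gP at e
  unfold hP
  linear_combination e

theorem l5_eq (T : Tab mul B lam f a0 a1 am1 a2 am2 a3 s se so) : B am2 a3 = l5P lam f := by
  have A := T.amb
  have h0 := T.h0
  have h1 := T.h1
  obtain ⟨e0, e2, em2, e1, em1, e3⟩ := gram_se T
  obtain ⟨o1, om1, o3, o0, o2, om2⟩ := gram_se T.flip
  have hg := g_eq T
  have hh := h_eq T
  have hK := K1 T
  unfold K1rhs at hK
  conv_lhs => rw [hK]
  simp only [map_add, map_smul, smul_eq_mul]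
  rw [h0.nm2, A.symm am2 am1, h0.lm1m2, A.symm am2 a0, h0.f0m2, h0.g2, hg, A.symm am2 a2, hh,
    A.symm am2 se, em2, A.symm am2 so, om2]
  unfold gP hP l5P
  ring

end Cfsg.Agent.Helper78.Sak
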