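import Cfsg.Agent.Helper78.Sak.Defs
import Cfsg.Agent.Helper78.Sak.StageOne
import Cfsg.Agent.Helper78.Sak.Mine
import Cfsg.Agent.Helper78.Sak.Gram
import Cfsg.Agent.Helper78.Sak.Gram2

/-! Piece H2 of S5544: `E03_eq`, `P2_zero`. -/

set_option autoImplicit false

namespace Cfsg.Agent.Helper78.Sak

variable {V : Type*} [AddCommGroup V] [Module ℝ V]
variable {mul : V →ₗ[ℝ] V →ₗ[ℝ] V} {B : LinearMap.BilinForm ℝ V}
variable {lam f : ℝ} {a0 a1 am1 a2 am2 a3 s se so : V}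

theorem E03_eq (T : Tab mul B lam f a0 a1 am1 a2 am2 a3 s se so) :
    mul a0 a3 = E03rhs lam f a0 a1 am1 a2 am2 s se := by
  have h0 := T.h0
  have hX := (stage_one T).1
  have hK := K1 T
  unfold K1rhs at hK
  unfold Xrhs at hX
  conv_lhs => rw [hK]
  simp only [map_add, map_smul, h0.p00, h0.p01, h0.p0m1, h0.p02, h0.p0m2, h0.p0se, hX]
  unfold E03rhs
  module

theorem P2_zero_of (T : Tab mul B lam f a0 a1 am1 a2 am2 a3 s se so) (hP1 : P1 lam f = 0) :
    P2 lam f = 0 := by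
  have A := T.amb
  have h0 := T.h0
  have h1 := T.h1
  obtain ⟨s0, s1, sm1, s2, sm2, s3⟩ := gram_s T
  obtain ⟨e0, e2, em2, e1, em1, e3⟩ := gram_se T
  have hg := g_eq T
  have hho : B am1 a3 = hP lam f := h_eq T.flip
  have h5 := l5_eq T
  have hE := E03_eq T
  unfold E03rhs at hE
  -- g = B a0 (a3 a3) = B (a0 a3) a3
  have key : B a0 a3 = B (mul a0 a3) a3 := by
    rw [← A.assoc, h1.pm2m2]
  rw [hE] at key
  simp only [map_add, map_smul, LinearMap.add_apply, LinearMap.smul_apply, smul_eq_mul] at key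
  rw [hg, h5, hho, h1.f0m2, h1.lm1m2, s3, e3] at key
  unfold gP hP l5P at key
  unfold P1 at hP1
  unfold P2
  linear_combination (-1 : ℝ) * key + (7 / 3 - 256 * lam) * hP1

end Cfsg.Agent.Helper78.Sak
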