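import Cfsg.Agent.Helper78.Sak.Defs
import Cfsg.Agent.Helper78.Sak.Endgame
import Cfsg.Agent.Helper78.Sak.Mine
import Cfsg.Agent.Helper78.Sak.StageOne
import Cfsg.Agent.Helper78.Sak.Gram
import Cfsg.Agent.Helper78.Sak.Gram2
import Cfsg.Agent.Helper78.Sak.PTwo
import Cfsg.Agent.Helper78.Sak.FeFo
import Cfsg.Agent.Helper48.SakC1
import Cfsg.Agent.Helper24.SakG3
import Cfsg.Agent.Helper79.SakH1
import Cfsg.Agent.Helper25.SakA2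
import Cfsg.Agent.Helper2.SakB2
import Cfsg.Agent.Helper77.SakA1

/-! Assembly of S5544 (Sakuma's theorem, Majorana setting). -/

set_option autoImplicit false

namespace Cfsg.Agent.Helper78.Sak

open Cfsg.Axial

variable {V : Type*} [AddCommGroup V] [Module ℝ V]
variable {mul : V →ₗ[ℝ] V →ₗ[ℝ] V} {B : LinearMap.BilinForm ℝ V}

theorem amb_of_ambient (hV : IsMajoranaAmbient mul B) : Amb mul B :=
  ⟨hV.1, hV.2.1, hV.2.2.1, hV.2.2.2.1⟩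

theorem tab_of_uax_of (A : Amb mul B) {t0 t1 : V ≃ₗ[ℝ] V} {a0 a1 : V} (h0 : UAx mul B t0 a0)
    (h1 : UAx mul B t1 a1) (hfe : B a0 (t1 a0) = B a1 (t0 a1)) :
    Tab mul B (B a0 a1) (B a0 (t1 a0)) a0 a1 (t0 a1) (t1 a0) (t0 (t1 a0)) (t1 (t0 a1))
      (mul a0 a1 - (1 / 32 : ℝ) • (a0 + a1)) (mul a0 (t1 a0) - (1 / 32 : ℝ) • (a0 + t1 a0))
      (mul a1 (t0 a1) - (1 / 32 : ℝ) • (a1 + t0 a1)) := by
  refine ⟨A, Cfsg.Agent.Helper48.Sak.htab_of_uax A h0 h1, ?_⟩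
  have H := Cfsg.Agent.Helper48.Sak.htab_of_uax A h1 h0
  have e1 : B a1 a0 = B a0 a1 := A.symm _ _
  have e2 : mul a1 a0 - (1 / 32 : ℝ) • (a1 + a0) = mul a0 a1 - (1 / 32 : ℝ) • (a0 + a1) := by
    rw [A.comm a1 a0, add_comm a1 a0]
  rw [e1, e2, ← hfe] at H
  exact H

section chain
variable {lam f : ℝ} {a0 a1 am1 a2 am2 a3 s se so : V}

theorem sese_eq (T : Tab mul B lam f a0 a1 am1 a2 am2 a3 s se so) : B se se = seseP lam f :=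
  Cfsg.Agent.Helper24.Sak.sese_eq T (h_eq T) (gram_se T)

theorem seso_eq (T : Tab mul B lam f a0 a1 am1 a2 am2 a3 s se so) : B se so = sesoP lam f :=
  Cfsg.Agent.Helper24.Sak.seso_eq T (stage_one T).1 (g_eq T) (h_eq T) (gram_s T) (gram_se T)
    (gram_se T.flip)

theorem P1_zero (T : Tab mul B lam f a0 a1 am1 a2 am2 a3 s se so) : P1 lam f = 0 :=
  Cfsg.Agent.Helper79.Sak.P1_zero T (K1 T) (gram_se T) (gram_se T.flip) (sese_eq T) (seso_eq T)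

end chain

theorem P2_zero {lam f : ℝ} {a0 a1 am1 a2 am2 a3 s se so : V}
    (T : Tab mul B lam f a0 a1 am1 a2 am2 a3 s se so) : P2 lam f = 0 :=
  P2_zero_of T (P1_zero T)

theorem tab_of_uax (A : Amb mul B) {t0 t1 : V ≃ₗ[ℝ] V} {a0 a1 : V} (h0 : UAx mul B t0 a0)
    (h1 : UAx mul B t1 a1) :
    Tab mul B (B a0 a1) (B a0 (t1 a0)) a0 a1 (t0 a1) (t1 a0) (t0 (t1 a0)) (t1 (t0 a1))
      (mul a0 a1 - (1 / 32 : ℝ) • (a0 + a1)) (mul a0 (t1 a0) - (1 / 32 : ℝ) • (a0 + t1 a0))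
      (mul a1 (t0 a1) - (1 / 32 : ℝ) • (a1 + t0 a1)) :=
  tab_of_uax_of A h0 h1 (fe_eq_fo A h0 h1)

theorem core (A : Amb mul B) {t0 t1 : V ≃ₗ[ℝ] V} {a0 a1 : V} (h0 : UAx mul B t0 a0)
    (h1 : UAx mul B t1 a1) :
    t1 a0 = a0 ∨ t1 (t0 a1) = a0 ∨ t1 a0 = t0 (t1 a0) ∨ t1 (t0 a1) = t0 (t1 a0) ∨
      t0 (t1 (t0 a1)) = t1 (t0 a1) := by
  have T := tab_of_uax A h0 h1
  have e1 := P1_zero T
  have e2 := P2_zero T
  rcases endgame _ _ e1 e2 with h | h | h | h | h | h | h | h | h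
  · exact Or.inl (per2 T h.2)
  · exact Or.inl (per2 T h.2)
  · exact Or.inl (per2 T h.2)
  · refine Or.inr (Or.inr (Or.inl (per4_of T (h_eq T) ?_)))
    rw [h.1, h.2]; unfold hP; norm_num
  · refine Or.inr (Or.inr (Or.inr (Or.inl (per5_of T (l5_eq T) ?_))))
    rw [h.1, h.2]; unfold l5P; norm_num
  · exact Or.inr (Or.inr (Or.inr (Or.inr (per6_of A h0 h.1 h.2 (K1 T)))))
  · refine Or.inr (Or.inl (per3_of T (g_eq T) ?_))
    rw [h.1, h.2]; unfold gP; norm_num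
  · refine Or.inr (Or.inl (per3_of T (g_eq T) ?_))
    rw [h.1, h.2]; unfold gP; norm_num
  · refine Or.inr (Or.inr (Or.inl (per4_of T (h_eq T) ?_)))
    rw [h.1, h.2]; unfold hP; norm_num

theorem uax_of_pair (hV : IsMajoranaAmbient mul B) (μ : V ≃ₗ[ℝ] V) (a : V)
    (h : IsMajoranaPair mul B μ a) (hn : B a a = 1) : UAx mul B μ a := by
  obtain ⟨h1, h2, h3, h4, h5, h6, h7, h8⟩ := Cfsg.Agent.Helper77.Sak.uax_of_pair_A1 hV μ a h hn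
  obtain ⟨f00, f04, f44⟩ := Cfsg.Agent.Helper25.SakA2.uax_fusion hV μ a h hn
  exact ⟨h1, h2, h3, h4, h5, h6, h7, h8, f00, f04, f44⟩

/-- Sakuma's theorem given the two group-level facts of piece B1 -/
theorem sakuma_of
    (hconj : ∀ (μ g : V ≃ₗ[ℝ] V) (a : V), IsMajoranaPair mul B μ a →
      (∀ u v : V, g (mul u v) = mul (g u) (g v)) → (∀ u v : V, B (g u) (g v) = B u v) →
      IsMajoranaPair mul B (g * μ * g⁻¹) (g a))
    (huniq : ∀ (μ μ' : V ≃ₗ[ℝ] V) (a : V), IsMajoranaPair mul B μ a →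
      IsMajoranaPair mul B μ' a → μ = μ')
    (hV : IsMajoranaAmbient mul B) (μ₀ μ₁ : V ≃ₗ[ℝ] V) (a₀ a₁ : V)
    (h₀ : IsMajoranaPair mul B μ₀ a₀) (h₁ : IsMajoranaPair mul B μ₁ a₁) (hn₀ : B a₀ a₀ = 1)
    (hn₁ : B a₁ a₁ = 1) : ∃ n : ℕ, 1 ≤ n ∧ n ≤ 6 ∧ (μ₀ * μ₁) ^ n = 1 := by
  have u0 := uax_of_pair hV μ₀ a₀ h₀ hn₀
  have u1 := uax_of_pair hV μ₁ a₁ h₁ hn₁
  exact Cfsg.Agent.Helper2.Sak.order_of_cases hconj huniq μ₀ μ₁ a₀ a₁ h₀ h₁ u0.tt u1.tt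
    (core (amb_of_ambient hV) u0 u1)

end Cfsg.Agent.Helper78.Sak
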